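import Mathlib

set_option autoImplicit false
universe u

namespace Groth.LanPre

open CategoryTheory CategoryTheory.Limits Opposite

variable {C : Type u} [SmallCategory C] {C' : Type u} [SmallCategory C'] (u : C ⥤ C')

noncomputable abbrev L : (Cᵒᵖ ⥤ Type u) ⥤ (C'ᵒᵖ ⥤ Type u) := u.op.lan

noncomputable abbrev adj : L u ⊣ (Functor.whiskeringLeft Cᵒᵖ C'ᵒᵖ (Type u)).obj u.op :=
  u.op.lanAdjunction (Type u)

/-- The unit on elements. -/
noncomputable def η (F : Cᵒᵖ ⥤ Type u) {X : C} (x : F.obj (op X)) : ((L u).obj F).obj (op (u.obj X)) :=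
  ((adj u).unit.app F).app (op X) x

theorem η_map (F : Cᵒᵖ ⥤ Type u) {X Y : C} (f : Y ⟶ X) (x : F.obj (op X)) :
    ((L u).obj F).map (u.map f).op (η u F x) = η u F (F.map f.op x) :=
  (NatTrans.naturality_apply ((adj u).unit.app F) f.op x).symm

theorem η_nat {F G : Cᵒᵖ ⥤ Type u} (φ : F ⟶ G) {X : C} (x : F.obj (op X)) :
    ((L u).map φ).app (op (u.obj X)) (η u F x) = η u G (φ.app (op X) x) := by
  have := (adj u).unit.naturality φ
  exact (congrArg (fun t : F ⟶ _ => t.app (op X) x) this).symm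

theorem exists_rep (F : Cᵒᵖ ⥤ Type u) {X' : C'} (z : ((L u).obj F).obj (op X')) :
    ∃ (W : C) (i : X' ⟶ u.obj W) (x : F.obj (op W)), ((L u).obj F).map i.op (η u F x) = z := by
  have hc := Functor.isPointwiseLeftKanExtensionLeftKanExtensionUnit u.op F (op X')
  obtain ⟨j, x, hx⟩ := Types.jointly_surjective_of_isColimit hc z
  refine ⟨j.left.unop, j.hom.unop, x, ?_⟩
  rw [← hx]
  simp [η, adj, Functor.lanAdjunction_unit, L, Functor.lan, Functor.lanUnit]
  rfl

/-- The functoriality of `u` on representables. -/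
def one (X : C) : yoneda.obj X ⟶
    ((Functor.whiskeringLeft Cᵒᵖ C'ᵒᵖ (Type u)).obj u.op).obj (yoneda.obj (u.obj X)) where
  app W := ↾fun g => u.map g
  naturality W W' f := by ext g; simp

/-- `u_! (yoneda X) = yoneda (u X)`. -/
noncomputable def yonedaIso (X : C) : (L u).obj (yoneda.obj X) ≅ yoneda.obj (u.obj X) where
  hom := ((adj u).homEquiv _ _).symm (one u X)
  inv := yonedaEquiv.symm (η u (yoneda.obj X) (𝟙 X : (yoneda.obj X).obj (op X)))
  hom_inv_id := by
    apply ((adj u).homEquiv _ _).injective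
    apply yonedaEquiv.injective
    rw [Adjunction.homEquiv_naturality_right, Equiv.apply_symm_apply, yonedaEquiv_comp,
      Adjunction.homEquiv_unit, CategoryTheory.Functor.map_id]
    simp only [yonedaEquiv_apply, η, one, Category.comp_id]
    change (yonedaEquiv.symm (η u (yoneda.obj X) (𝟙 X : (yoneda.obj X).obj (op X)))).app
      (op (u.obj X)) (u.map (𝟙 X)) = η u (yoneda.obj X) (𝟙 X : (yoneda.obj X).obj (op X))
    rw [u.map_id]
    exact yonedaEquiv.apply_symm_apply _
  inv_hom_id := by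
    apply yonedaEquiv.injective
    rw [yonedaEquiv_comp, Equiv.apply_symm_apply]
    have h := ((adj u).homEquiv _ _).apply_symm_apply (one u X)
    rw [Adjunction.homEquiv_unit] at h
    have h2 := congrArg (fun t : yoneda.obj X ⟶ _ => t.app (op X) (𝟙 X)) h
    exact h2.trans (u.map_id X)

end Groth.LanPre
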